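import Cfsg.Agent.Lib.Known.ChevFoldInj
import Cfsg.Agent.Lib.Known.ChevFixed
import Cfsg.Agent.Lib.Known.ChevAut.Diag
import Cfsg.Agent.Lib.Known.TrialityTorus.Tools

/-!
# Coefficients at the fundamental roots of unipotent elements

An element of the maximal unipotent subgroup all of whose coefficients at fundamental roots are nonzero is
conjugated into that subgroup only by elements of the Borel subgroup.
-/

set_option autoImplicit false

namespace CfsgLib.Lie.RegularCoef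

open Cfsg.Lie (ChevalleyDatum)
open CfsgLib.Lie.Chev
open CfsgLib.Known
open CfsgLib.Known.ChevFold (rawG hS HasCoef hasCoef_mul hasCoef_xe hasCoef_one hasCoef_unique ht)

variable {D : ChevalleyDatum} {X : Aux} (C : Cert D X) {F : Type*} [Field F]

include C in
theorem ht_simple (i : Fin D.rank) : ht D X (D.simple i) = 1 := by
  show ∑ k : Fin D.rank, (1 : ℤ) * X.coef k (D.simple i) = 1
  rw [Finset.sum_eq_single i]
  · rw [C.coef_simple i.2 i.2, if_pos rfl, mul_one]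
  · intro k _ hk
    rw [C.coef_simple i.2 k.2, if_neg (fun e => hk (Fin.ext e)), mul_zero]
  · simp

variable (hpos : ∀ r : Fin D.nroots, half D ≤ (r : ℕ) → 1 ≤ ht D X r)
include hpos

theorem mem_RS_of_UP {v : ↥(D.group F)} (hv : v ∈ (chevRel C F).UP) : v ∈ (rawG C).RS (hS D X 1) :=
  (rawG C).RS_mono (S := posSet D) (fun r hr => hpos r hr) hv

theorem hasCoef_mul_UP {v w : ↥(D.group F)} (hv : v ∈ (chevRel C F).UP) (hw : w ∈ (chevRel C F).UP)
    {r : Fin D.nroots} (hr : ht D X r = 1) {s t : F} (h1 : HasCoef C v r s) (h2 : HasCoef C w r t) :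
    HasCoef C (v * w) r (s + t) :=
  hasCoef_mul C le_rfl (mem_RS_of_UP C hpos hv) (mem_RS_of_UP C hpos hw) hr h1 h2

theorem exists_coef {v : ↥(D.group F)} (hv : v ∈ (chevRel C F).UP) {r : Fin D.nroots} (hr : ht D X r = 1) :
    ∃ t, HasCoef C v r t := by
  suffices h : v ∈ (chevRel C F).UP ∧ ∃ t, HasCoef C v r t from h.2
  refine Subgroup.closure_induction (p := fun v _ => v ∈ (chevRel C F).UP ∧ ∃ t, HasCoef C v r t) ?_
    ⟨one_mem _, 0, hasCoef_one C r⟩ ?_ ?_ hv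
  · rintro x ⟨s, hs, t, rfl⟩
    exact ⟨(chevRel C F).xe_mem_US hs t, _, hasCoef_xe C s r t⟩
  · rintro x y - - ⟨hx, a, ha⟩ ⟨hy, b, hb⟩
    exact ⟨mul_mem hx hy, a + b, hasCoef_mul_UP C hpos hx hy hr ha hb⟩
  · rintro x - ⟨hx, a, ha⟩
    refine ⟨inv_mem hx, -a, fun k => ?_⟩
    have h1 := (rawG C).isGr_mem (fun _ => 1) le_rfl (Set.Subset.refl _) (mem_RS_of_UP C hpos (inv_mem hx))
    have h2 := (rawG C).isGr_mem (fun _ => 1) le_rfl (Set.Subset.refl _) (mem_RS_of_UP C hpos hx)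
    have h := (RawRel.IsGr.mul (fun _ => 1) le_rfl h2.1 h1.1).2 (Sum.inl k) (Sum.inr ⟨D.neg r, C.neg_lt r.2⟩)
      Sum.inl_ne_inr (by
        simp only [RawRel.wt, Sum.elim_inl, Sum.elim_inr]
        rw [(rawG (F := F) C).hgt_neg (fun _ => 1) r.2, show hgt D X (fun _ => 1) (r : ℕ) = 1 from hr]
        omega)
    have e : ((rawG (F := F) C).θ x : GL D.Idx F) * (rawG (F := F) C).θ x⁻¹ = 1 := by
      rw [← map_mul, mul_inv_cancel, map_one]
    have e' := congrArg (fun g : GL D.Idx F => (g : Matrix D.Idx D.Idx F) (Sum.inl k) (Sum.inr ⟨D.neg r, C.neg_lt r.2⟩)) e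
    simp only [Units.val_mul, Units.val_one, Matrix.one_apply, reduceCtorEq, if_false] at e'
    rw [h, show ((rawG (F := F) C).θ x : Matrix D.Idx D.Idx F) (Sum.inl k) (Sum.inr ⟨D.neg r, C.neg_lt r.2⟩) =
      (X.cor k r : F) * a from ha k] at e'
    show ((rawG (F := F) C).θ x⁻¹ : Matrix D.Idx D.Idx F) (Sum.inl k) (Sum.inr ⟨D.neg r, C.neg_lt r.2⟩) = _
    linear_combination e'

theorem coef_conj_UP {u v : ↥(D.group F)} (hu : u ∈ (chevRel C F).UP) (hv : v ∈ (chevRel C F).UP)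
    {r : Fin D.nroots} (hr : ht D X r = 1) {t : F} (h : HasCoef C v r t) : HasCoef C (u * v * u⁻¹) r t := by
  obtain ⟨a, ha⟩ := exists_coef C hpos hu hr
  obtain ⟨b, hb⟩ := exists_coef C hpos (inv_mem hu) hr
  have h0 := hasCoef_mul_UP C hpos hu (inv_mem hu) hr ha hb
  rw [mul_inv_cancel] at h0
  have hab := hasCoef_unique C h0 (hasCoef_one C r)
  have h2 := hasCoef_mul_UP C hpos (mul_mem hu hv) (inv_mem hu) hr (hasCoef_mul_UP C hpos hu hv hr ha h) hb
  rwa [show a + t + b = t by linear_combination hab] at h2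

/-- A homomorphism scaling the positive root elements scales the coefficients. -/
theorem coef_scale (φ : ↥(D.group F) →* ↥(D.group F)) (a : Fin D.nroots → F)
    (hφ : ∀ s : Fin D.nroots, half D ≤ (s : ℕ) → ∀ t, φ (xG C F s t) = xG C F s (a s * t))
    {v : ↥(D.group F)} (hv : v ∈ (chevRel C F).UP) {r : Fin D.nroots} (hr : ht D X r = 1) {t : F}
    (h : HasCoef C v r t) : φ v ∈ (chevRel C F).UP ∧ HasCoef C (φ v) r (a r * t) := by
  suffices key : v ∈ (chevRel C F).UP ∧ φ v ∈ (chevRel C F).UP ∧ ∀ t, HasCoef C v r t → HasCoef C (φ v) r (a r * t) from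
    ⟨key.2.1, key.2.2 t h⟩
  refine Subgroup.closure_induction
    (p := fun v _ => v ∈ (chevRel C F).UP ∧ φ v ∈ (chevRel C F).UP ∧ ∀ t, HasCoef C v r t → HasCoef C (φ v) r (a r * t))
    ?_ ?_ ?_ ?_ hv
  · rintro x ⟨s, hs, u, rfl⟩
    show (chevRel C F).xe s u ∈ _ ∧ φ (xG C F s u) ∈ _ ∧ _
    refine ⟨(chevRel C F).xe_mem_US hs u, by rw [hφ s hs]; exact (chevRel C F).xe_mem_US hs _, fun t ht' => ?_⟩
    rw [hasCoef_unique C ht' (hasCoef_xe C s r u), show φ ((chevRel C F).xe s u) = xG C F s (a s * u) from hφ s hs u]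
    have h1 := hasCoef_xe C s r (a s * u)
    by_cases e : s = r
    · subst e; rwa [if_pos rfl] at h1 ⊢
    · rw [if_neg e] at h1 ⊢; rwa [mul_zero]
  · refine ⟨one_mem _, by rw [map_one]; exact one_mem _, fun t ht' => ?_⟩
    rw [hasCoef_unique C ht' (hasCoef_one C r), mul_zero, map_one]
    exact hasCoef_one C r
  · rintro x y - - ⟨hx, hx', hxc⟩ ⟨hy, hy', hyc⟩
    refine ⟨mul_mem hx hy, by rw [map_mul]; exact mul_mem hx' hy', fun t ht' => ?_⟩
    obtain ⟨a1, h1⟩ := exists_coef C hpos hx hr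
    obtain ⟨a2, h2⟩ := exists_coef C hpos hy hr
    rw [hasCoef_unique C ht' (hasCoef_mul_UP C hpos hx hy hr h1 h2), mul_add, map_mul]
    exact hasCoef_mul_UP C hpos hx' hy' hr (hxc _ h1) (hyc _ h2)
  · rintro x - ⟨hx, hx', hxc⟩
    refine ⟨inv_mem hx, by rw [map_inv]; exact inv_mem hx', fun t ht' => ?_⟩
    obtain ⟨a1, h1⟩ := exists_coef C hpos hx hr
    obtain ⟨b1, hb1⟩ := exists_coef C hpos (inv_mem hx') hr
    have e := hasCoef_mul_UP C hpos hx (inv_mem hx) hr h1 ht'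
    have e' := hasCoef_mul_UP C hpos hx' (inv_mem hx') hr (hxc _ h1) hb1
    rw [mul_inv_cancel] at e e'
    have h2 := hasCoef_unique C e (hasCoef_one C r)
    have h3 := hasCoef_unique C e' (hasCoef_one C r)
    rw [map_inv, show a r * t = b1 by linear_combination a r * h2 - h3]
    exact hb1

theorem coef_zero_US {S : Set (Fin D.nroots)} (hS' : S ⊆ posSet D) {r : Fin D.nroots} (hr : ht D X r = 1)
    (hrS : r ∉ S) {v : ↥(D.group F)} (hv : v ∈ (chevRel C F).US S) : HasCoef C v r 0 := by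
  suffices key : v ∈ (chevRel C F).UP ∧ HasCoef C v r 0 from key.2
  refine Subgroup.closure_induction (p := fun v _ => v ∈ (chevRel C F).UP ∧ HasCoef C v r 0) ?_
    ⟨one_mem _, hasCoef_one C r⟩ ?_ ?_ hv
  · rintro x ⟨s, hs, t, rfl⟩
    refine ⟨(chevRel C F).xe_mem_US (hS' hs) t, ?_⟩
    have h1 := hasCoef_xe C s r t
    rwa [if_neg (fun e : s = r => hrS (e ▸ hs))] at h1
  · rintro x y - - ⟨hx, a⟩ ⟨hy, b⟩
    refine ⟨mul_mem hx hy, ?_⟩
    have h := hasCoef_mul_UP C hpos hx hy hr a b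
    rwa [add_zero] at h
  · rintro x - ⟨hx, a⟩
    refine ⟨inv_mem hx, ?_⟩
    obtain ⟨b, hb⟩ := exists_coef C hpos (inv_mem hx) hr
    have e := hasCoef_mul_UP C hpos hx (inv_mem hx) hr a hb
    rw [mul_inv_cancel, zero_add] at e
    rwa [hasCoef_unique C e (hasCoef_one C r)] at hb

theorem mem_BS_of_regular {g v : ↥(D.group F)} (hv : v ∈ (chevRel C F).UP)
    (hreg : ∀ i : Fin D.rank, ∀ t, HasCoef C v ((chevRel C F).sroot i) t → t ≠ 0)
    (hg : g * v * g⁻¹ ∈ (chevRel C F).UP) : g ∈ (chevRel C F).BS := by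
  obtain ⟨R, hR⟩ : ∃ R, R = chevRel C F := ⟨_, rfl⟩
  rw [← hR] at hv hreg hg ⊢
  obtain ⟨b, hb, n, u, hu, rfl⟩ := R.exists_bnu g
  have hu' : u ∈ R.UP := R.US_mono (Rel.invSet_subset _) hu
  obtain ⟨w, hw⟩ : ∃ w, w = u * v * u⁻¹ := ⟨_, rfl⟩
  have hwUP : w ∈ R.UP := hw ▸ mul_mem (mul_mem hu' hv) (inv_mem hu')
  have h1 : (n : ↥(D.group F)) * w * (n : ↥(D.group F))⁻¹ ∈ R.UP := by
    have h := (Subgroup.mem_normalizer_iff''.1 (R.BS_le_normalizer_UP hb) _).1 hg
    rw [hw]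
    convert h using 1
    group
  obtain ⟨p, hp, m, hm, e⟩ := R.exists_UP_factor (R.nsPerm n) hwUP
  have h2 := R.conj_inv hm
  have h3 : (n : ↥(D.group F)) * m * (n : ↥(D.group F))⁻¹ ∈ R.BS := by
    rw [show (n : ↥(D.group F)) * m * (n : ↥(D.group F))⁻¹ =
      ((n : ↥(D.group F)) * p * (n : ↥(D.group F))⁻¹)⁻¹ * ((n : ↥(D.group F)) * w * (n : ↥(D.group F))⁻¹) by
        rw [e]; group]
    exact mul_mem (inv_mem (R.UP_le_BS (R.conj_keep hp))) (R.UP_le_BS h1)
  have hm1 : m = 1 := by simpa using R.BS_inf_UN h3 h2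
  rw [hm1, mul_one] at e
  have hn : (n : ↥(D.group F)) ∈ R.HS := by
    refine R.nsPerm_eq_one_of_pos n fun i => ?_
    by_contra hneg
    have hht : ht D X (R.sroot i : ℕ) = 1 := ht_simple C i
    have hnk : R.sroot i ∉ keepSet (R.nsPerm n) := fun h => hneg h.2
    obtain ⟨a, ha⟩ := exists_coef C hpos (hR ▸ hv) hht
    refine hreg i a ha ?_
    have h4 : HasCoef C w (R.sroot i) a := hw ▸ coef_conj_UP C hpos (hR ▸ hu') (hR ▸ hv) hht ha
    subst hR
    have h5 : HasCoef C w ((chevRel C F).sroot i) 0 :=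
      coef_zero_US C hpos (Rel.keepSet_subset _) hht hnk (e ▸ hp)
    exact hasCoef_unique C h4 h5
  exact mul_mem (mul_mem hb (R.HS_le_BS hn)) (R.UP_le_BS hu')

theorem coef_conj_BS {g v : ↥(D.group F)} (hg : g ∈ (chevRel C F).BS) (hv : v ∈ (chevRel C F).UP) :
    ∃ c : Fin D.rank → Fˣ, ∀ r : Fin D.nroots, ht D X r = 1 → ∀ t, HasCoef C v r t →
      HasCoef C (g * v * g⁻¹) r (((∏ i : Fin D.rank, c i ^ D.cartan i r : Fˣ) : F) * t) := by
  obtain ⟨u, hu, h, hh, rfl⟩ := (chevRel C F).exists_of_mem_BS hg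
  obtain ⟨c, hc⟩ := (chevRel C F).torusHom_surjective ⟨h, hh⟩
  refine ⟨c, fun r hr t ht' => ?_⟩
  have hmon := TrialityTorus.isMon_torusHom (chevRel C F) c
  rw [show (((chevRel C F).torusHom c : (chevRel C F).HS) : ↥(D.group F)) = h from congrArg Subtype.val hc] at hmon
  have key := coef_scale C hpos (MulAut.conj h).toMonoidHom
    (fun s => ((∏ i : Fin D.rank, c i ^ D.cartan i s : Fˣ) : F)) (fun s _ t => (hmon s).2.2.2 t) hv hr ht'
  have e : u * h * v * (u * h)⁻¹ = u * (h * v * h⁻¹) * u⁻¹ := by group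
  rw [e]
  exact coef_conj_UP C hpos hu key.1 hr key.2

end CfsgLib.Lie.RegularCoef
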