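import Cfsg.Agent.Lib.Lie.RegularCoef.Basic
import Cfsg.Agent.Lib.Known.ChevFoldData
import Cfsg.Agent.Lib.Lie.Rel.StFacts
import Cfsg.Agent.Lib.Lie.Twisted.E6

/-!
# Three classes of subgroups of type F4 in the twisted group of type E6 over two elements

The folded subgroup of type F4 lies in the twisted group. Its images under the powers of a diagonal automorphism
are not conjugate: a conjugating element may be taken to fix the standard Sylow subgroup, so it lies in the Borel
subgroup, and then the diagonal automorphism would be inner.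
-/

set_option autoImplicit false

namespace CfsgLib.Lie.RegularCoef

open Cfsg.Lie (ChevalleyDatum chevE6 chevF4 twistedE6)
open CfsgLib.Lie.Chev
open CfsgLib.Known
open CfsgLib.Known.ChevFold (HasCoef hasCoef_xe hasCoef_one hasCoef_unique ht rowG)

theorem posE6 : ∀ r : Fin chevE6.nroots, half chevE6 ≤ (r : ℕ) → 1 ≤ ht chevE6 auxE6 r := fun r hr =>
  ((ChevFold.shape_props (D := chevE6) (H := chevF4) (X := auxE6) (p := 2) (ChevFoldData.dataF4 (ZMod 2)).hQ
    (ChevFoldData.dataF4 (ZMod 2)).hS).1 r).1 hr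

theorem cartan_weights : ∀ i : Fin chevE6.rank,
    (3 : ℤ) ∣ ∑ k : Fin chevE6.rank, (([1, 0, 2, 0, 1, 2] : List ℤ).getD k 0) * chevE6.cartan i (chevE6.simple k) := by
  decide +kernel

theorem simple_roots : List.map (fun i => chevE6.simple i) (List.range 6) = [56, 46, 42, 39, 37, 36] ∧
    List.map (fun i => chevE6.neg (chevE6.simple i)) (List.range 6) = [15, 25, 29, 32, 34, 35] := by
  decide +kernel

/-- The fundamental roots in the order of the regular element. -/
def regRoots : List (Fin chevE6.nroots) :=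
  [⟨56, by decide +kernel⟩, ⟨36, by decide +kernel⟩, ⟨42, by decide +kernel⟩, ⟨37, by decide +kernel⟩,
    ⟨39, by decide +kernel⟩, ⟨46, by decide +kernel⟩]

/-- The values of the diagonal characters at the fundamental roots. -/
def cval3 {K : Type*} [Field K] (ω : Kˣ) (j : ℕ) : Fin chevE6.rank → Kˣ := fun i =>
  if (i : ℕ) = 2 then ω ^ j else if (i : ℕ) = 4 then ω ^ (2 * j) else 1

theorem hasCoef_list {F : Type*} [Field F] (r : Fin chevE6.nroots) (hr : ht chevE6 auxE6 r = 1) :
    ∀ L : List (Fin chevE6.nroots), (∀ s ∈ L, half chevE6 ≤ (s : ℕ)) →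
      (L.map fun s : Fin chevE6.nroots => xG certE6 F (s : ℕ) 1).prod ∈ (chevRel certE6 F).UP ∧
        HasCoef certE6 (L.map fun s : Fin chevE6.nroots => xG certE6 F (s : ℕ) 1).prod r ((L.count r : ℕ) : F)
  | [], _ => ⟨by simp, by simpa using hasCoef_one certE6 r⟩
  | s :: L, h => by
    obtain ⟨h1, h2⟩ := hasCoef_list (F := F) r hr L fun x hx => h x (List.mem_cons_of_mem _ hx)
    have hs : xG certE6 F (s : ℕ) 1 ∈ (chevRel certE6 F).UP :=
      (chevRel certE6 F).xe_mem_US (S := posSet chevE6) (r := s) (h s List.mem_cons_self) 1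
    rw [List.map_cons, List.prod_cons]
    refine ⟨mul_mem hs h1, ?_⟩
    have h3 := hasCoef_mul_UP certE6 posE6 hs h1 hr (hasCoef_xe certE6 s r 1) h2
    rwa [List.count_cons, show ((List.count r L + if (s == r) = true then 1 else 0 : ℕ) : F) =
      (if s = r then (1 : F) else 0) + (List.count r L : F) by
        by_cases e : s = r <;> simp [e, add_comm]]

theorem prod_zpow_exp {A ι : Type*} [CommGroup A] (x : A) (s : Finset ι) (e : ι → ℤ) :
    ∏ k ∈ s, x ^ e k = x ^ ∑ k ∈ s, e k := by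
  classical
  induction s using Finset.induction_on with
  | empty => simp
  | @insert a s ha ih => rw [Finset.prod_insert ha, Finset.sum_insert ha, ih, zpow_add]

theorem hasCoef_map {F K : Type*} [Field F] [Field K] (j : F →+* K) {v : ↥(chevE6.group F)}
    {r : Fin chevE6.nroots} {t : F} (h : HasCoef certE6 v r t) :
    HasCoef certE6 (ChevFixed.groupMap chevE6 j v) r (j t) := fun k => by
  have h' := congrArg j (h k)
  rw [map_mul, map_intCast] at h'
  exact h'

set_option maxHeartbeats 1600000 in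
set_option maxRecDepth 4000 in
/-- The folded subgroups, moved by the diagonal automorphisms. -/
theorem exists_family {K : Type*} [Field K] [Fintype K] (hK : Fintype.card K = 4) (hchar : CharP K 2) (ω : Kˣ) :
    ∃ (f : ℕ → ↥(chevF4.group (ZMod 2)) →* ↥(chevE6.group K)) (χ : ℕ → ℕ → Kˣ) (v : ↥(chevF4.group (ZMod 2))),
      (∀ j, Function.Injective (f j)) ∧ (∀ j x, f j x ∈ (twistedE6 K 2).subgroupOf (chevE6.group K)) ∧
      (∀ (j i : ℕ) (hi : i < chevE6.rank), χ j (chevE6.simple i) = cval3 ω j ⟨i, hi⟩) ∧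
      v ∈ (chevRel certF4 (ZMod 2)).UP ∧
      (∀ k, ∀ u ∈ (chevRel certF4 (ZMod 2)).UP, f k u ∈ (chevRel certE6 K).UP) ∧
      (∀ k, ∀ u ∈ (chevRel certF4 (ZMod 2)).UP, ∀ m : Fin chevE6.rank,
        HasCoef certE6 (f k u) ((chevRel certE6 K).sroot m) 0 ∨
          HasCoef certE6 (f k u) ((chevRel certE6 K).sroot m) (χ k (chevE6.simple m) : K)) ∧
      ∀ k, ∀ m : Fin chevE6.rank, HasCoef certE6 (f k v) ((chevRel certE6 K).sroot m) (χ k (chevE6.simple m) : K) := by
  classical
  obtain ⟨ι, hι⟩ : ∃ ι : ZMod 2 →+* K, ι = ZMod.castHom (dvd_refl 2) K := ⟨_, rfl⟩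
  have hι01 : ∀ x : ZMod 2, ι x * ι x = ι x := fun x => by
    rw [← map_mul]; congr 1; revert x; decide
  obtain ⟨ψ, hψ⟩ := ChevFold.exists_hom certE6 certF4 (ChevFoldData.dataF4 (ZMod 2)).hp
    (ChevFoldData.dataF4 (ZMod 2)).hQ ChevFoldData.relF4 witF4
    (stTheta_ker_bot certF4 (ZMod 2) witF4 cmat_F4 smithF4 (by decide +kernel))
  have hψinj : Function.Injective ψ := ChevFold.psi_injective certE6 certF4 (ChevFoldData.dataF4 (ZMod 2)).hp
    (ChevFoldData.dataF4 (ZMod 2)).hQ (ChevFoldData.dataF4 (ZMod 2)).hO ψ hψ (ChevFoldData.dataF4 (ZMod 2)).hS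
  have hrow : ∀ j < chevF4.rank, ∀ t : ZMod 2,
      ψ (xG certF4 (ZMod 2) (chevF4.simple j) t) =
        ((([[0, 5], [2, 4], [3], [1]] : List (List ℕ)).getD j []).map fun i => xG certE6 (ZMod 2) (chevE6.simple i) t).prod ∧
      ψ (xG certF4 (ZMod 2) (chevF4.neg (chevF4.simple j)) t) =
        ((([[0, 5], [2, 4], [3], [1]] : List (List ℕ)).getD j []).map fun i =>
          xG certE6 (ZMod 2) (chevE6.neg (chevE6.simple i)) t).prod := by
    intro j hj t
    rw [hψ, hψ]
    exact ChevFold.row_simple certE6 certF4 (ChevFoldData.dataF4 (ZMod 2)).hp (ChevFoldData.dataF4 (ZMod 2)).hQ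
      (ChevFoldData.dataF4 (ZMod 2)).hO hj t
  obtain ⟨χ, hχdef⟩ : ∃ χ : ℕ → ℕ → Kˣ, ∀ j, χ j = ChevAut.chi auxE6 (cval3 ω j) := ⟨_, fun _ => rfl⟩
  have hχ : ∀ j, chevE6.IsRootCharacter (χ j) := fun j => by
    rw [hχdef]; exact ChevAut.isRootCharacter_chi certE6 _
  have hrank : chevE6.rank = 6 := by decide +kernel
  have hχs : ∀ (j i : ℕ) (hi : i < chevE6.rank), χ j (chevE6.simple i) = cval3 ω j ⟨i, hi⟩ := fun j i hi => by
    rw [hχdef]; exact ChevAut.chi_simple certE6 _ ⟨i, hi⟩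
  obtain ⟨f, hf⟩ : ∃ f : ℕ → ↥(chevF4.group (ZMod 2)) →* ↥(chevE6.group K), ∀ j,
      f j = ((ChevAut.diagAut certE6 ChevDiag.stepsE6 (hχ j)).toMonoidHom.comp (ChevFixed.groupMap chevE6 ι)).comp ψ :=
    ⟨_, fun _ => rfl⟩
  have hfinj : ∀ j, Function.Injective (f j) := fun j => by
    rw [hf]
    exact ((ChevAut.diagAut certE6 ChevDiag.stepsE6 (hχ j)).injective.comp
      (ChevFixed.groupMap_injective ι)).comp hψinj
  have hxG : ∀ j r, r < chevE6.nroots → ∀ t : ZMod 2,
      ChevAut.diagAut certE6 ChevDiag.stepsE6 (hχ j) (ChevFixed.groupMap chevE6 ι (xG certE6 (ZMod 2) r t)) =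
        xG certE6 K r ((χ j r : K) * ι t) := fun j r hr t => by
    show ChevAut.diagAut certE6 ChevDiag.stepsE6 (hχ j) (ChevFixed.groupMap chevE6 ι ((chevRel certE6 (ZMod 2)).xe r t)) = _
    rw [ChevFixed.groupMap_xe]
    exact ChevAut.diagAut_xe certE6 ChevDiag.stepsE6 (hχ j) hr _
  -- the images lie in the twisted group
  have hmem : ∀ j, ∀ x, f j x ∈ (twistedE6 K 2).subgroupOf (chevE6.group K) := by
    intro j
    suffices h : ((twistedE6 K 2).subgroupOf (chevE6.group K)).comap (f j) = ⊤ from fun x => by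
      have := Subgroup.mem_top x; rw [← h] at this; exact this
    refine ChevGen.eq_top_of_simple (chevRel certF4 (ZMod 2)) _ fun i t => ?_
    have hfix : ι t ^ 2 = ι t := by rw [sq]; exact hι01 t
    have hw : ((ω ^ j : Kˣ) : K) ^ 2 = ((ω ^ (2 * j) : Kˣ) : K) := by
      rw [← Units.val_pow_eq_pow_val, ← pow_mul, mul_comm j]
    have hw' : (((ω ^ j)⁻¹ : Kˣ) : K) ^ 2 = (((ω ^ (2 * j))⁻¹ : Kˣ) : K) := by
      rw [← Units.val_pow_eq_pow_val, inv_pow, ← pow_mul, mul_comm j]
    have hs := simple_roots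
    simp only [List.range_succ, List.range_zero, List.nil_append, List.cons_append, List.map_cons, List.map_nil,
      List.cons.injEq, and_true] at hs
    obtain ⟨⟨s0, s1, s2, s3, s4, s5⟩, n0, n1, n2, n3, n4, n5⟩ := hs
    have hn : ∀ k, k < 6 → χ j (chevE6.neg (chevE6.simple k)) = (χ j (chevE6.simple k))⁻¹ := fun k hk =>
      (hχ j).1 _ (certE6.simple_lt (hrank.symm ▸ hk))
    have hlt : ∀ k, k < 6 → chevE6.simple k < chevE6.nroots ∧ chevE6.neg (chevE6.simple k) < chevE6.nroots :=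
      fun k hk => ⟨certE6.simple_lt (hrank.symm ▸ hk), certE6.neg_lt (certE6.simple_lt (hrank.symm ▸ hk))⟩
    constructor
    · rw [Subgroup.mem_comap, hf, MonoidHom.comp_apply, MonoidHom.comp_apply,
        show (chevRel certF4 (ZMod 2)).xe (chevF4.simple i) t = xG certF4 (ZMod 2) (chevF4.simple i) t from rfl,
        (hrow i i.2 t).1, map_list_prod, map_list_prod, List.map_map, List.map_map]
      obtain ⟨i, hi⟩ := i
      have hi4 : i < 4 := hi
      interval_cases i <;>
        simp only [List.getD_cons_zero, List.getD_cons_succ, List.map_cons, List.map_nil, List.prod_cons,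
          List.prod_nil, mul_one, Function.comp_apply, MulEquiv.coe_toMonoidHom]
      · rw [hxG _ _ (hlt 0 (by norm_num)).1, hxG _ _ (hlt 5 (by norm_num)).1, hχs j 0 (by omega),
          hχs j 5 (by omega), s0, s5]
        simp only [cval3, OfNat.zero_ne_ofNat, Nat.reduceEqDiff, if_false, Units.val_one, one_mul]
        conv => arg 2; arg 2; rw [← hfix]
        exact TwGroups.wordE6_pair_mem (q := 2) (a := 56) (b := 36) (by decide) (ι t)
      · rw [hxG _ _ (hlt 2 (by norm_num)).1, hxG _ _ (hlt 4 (by norm_num)).1, hχs j 2 (by omega),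
          hχs j 4 (by omega), s2, s4]
        simp only [cval3, Nat.reduceEqDiff, if_true, if_false]
        rw [show ((ω ^ (2 * j) : Kˣ) : K) * ι t = (((ω ^ j : Kˣ) : K) * ι t) ^ 2 by rw [mul_pow, hw, hfix]]
        exact TwGroups.wordE6_pair_mem (q := 2) (a := 42) (b := 37) (by decide) _
      · rw [hxG _ _ (hlt 3 (by norm_num)).1, hχs j 3 (by omega), s3]
        simp only [cval3, Nat.reduceEqDiff, if_false, Units.val_one, one_mul]
        exact TwGroups.wordE6_single_mem (q := 2) (r := 39) (by decide) hfix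
      · rw [hxG _ _ (hlt 1 (by norm_num)).1, hχs j 1 (by omega), s1]
        simp only [cval3, Nat.reduceEqDiff, if_false, Units.val_one, one_mul, OfNat.one_ne_ofNat]
        exact TwGroups.wordE6_single_mem (q := 2) (r := 46) (by decide) hfix
    · rw [Subgroup.mem_comap, hf, MonoidHom.comp_apply, MonoidHom.comp_apply,
        show (chevRel certF4 (ZMod 2)).xe (chevF4.neg (chevF4.simple i)) t =
          xG certF4 (ZMod 2) (chevF4.neg (chevF4.simple i)) t from rfl,
        (hrow i i.2 t).2, map_list_prod, map_list_prod, List.map_map, List.map_map]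
      obtain ⟨i, hi⟩ := i
      have hi4 : i < 4 := hi
      interval_cases i <;>
        simp only [List.getD_cons_zero, List.getD_cons_succ, List.map_cons, List.map_nil, List.prod_cons,
          List.prod_nil, mul_one, Function.comp_apply, MulEquiv.coe_toMonoidHom]
      · rw [hxG _ _ (hlt 0 (by norm_num)).2, hxG _ _ (hlt 5 (by norm_num)).2, hn 0 (by norm_num), hn 5 (by norm_num),
          hχs j 0 (by omega), hχs j 5 (by omega), n0, n5]
        simp only [cval3, OfNat.zero_ne_ofNat, Nat.reduceEqDiff, if_false, inv_one, Units.val_one, one_mul]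
        conv => arg 2; arg 2; rw [← hfix]
        exact TwGroups.wordE6_pair_mem (q := 2) (a := 15) (b := 35) (by decide) (ι t)
      · rw [hxG _ _ (hlt 2 (by norm_num)).2, hxG _ _ (hlt 4 (by norm_num)).2, hn 2 (by norm_num), hn 4 (by norm_num),
          hχs j 2 (by omega), hχs j 4 (by omega), n2, n4]
        simp only [cval3, Nat.reduceEqDiff, if_true, if_false]
        rw [show (((ω ^ (2 * j))⁻¹ : Kˣ) : K) * ι t = ((((ω ^ j)⁻¹ : Kˣ) : K) * ι t) ^ 2 by rw [mul_pow, hw', hfix]]
        exact TwGroups.wordE6_pair_mem (q := 2) (a := 29) (b := 34) (by decide) _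
      · rw [hxG _ _ (hlt 3 (by norm_num)).2, hn 3 (by norm_num), hχs j 3 (by omega), n3]
        simp only [cval3, Nat.reduceEqDiff, if_false, inv_one, Units.val_one, one_mul]
        exact TwGroups.wordE6_single_mem (q := 2) (r := 32) (by decide) hfix
      · rw [hxG _ _ (hlt 1 (by norm_num)).2, hn 1 (by norm_num), hχs j 1 (by omega), n1]
        simp only [cval3, Nat.reduceEqDiff, if_false, inv_one, Units.val_one, one_mul, OfNat.one_ne_ofNat]
        exact TwGroups.wordE6_single_mem (q := 2) (r := 25) (by decide) hfix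
  -- images of unipotent elements
  have hUP : ∀ (k : ℕ) (u : ↥(chevF4.group (ZMod 2))), u ∈ (chevRel certF4 (ZMod 2)).UP →
      ∀ r : Fin chevE6.nroots, ht chevE6 auxE6 r = 1 → ∃ t : ZMod 2, f k u ∈ (chevRel certE6 K).UP ∧
        HasCoef certE6 (f k u) r ((χ k r : K) * ι t) ∧ HasCoef certE6 (ψ u) r t := by
    intro k u hu r hr
    have h1 := ChevFold.psi_mem_UP certE6 certF4 (ChevFoldData.dataF4 (ZMod 2)).hQ ψ hψ
      (ChevFoldData.dataF4 (ZMod 2)).hS hu
    obtain ⟨t, ht'⟩ := exists_coef certE6 posE6 h1 hr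
    have h2 : ChevFixed.groupMap chevE6 ι (ψ u) ∈ (chevRel certE6 K).UP :=
      (show (chevRel certE6 (ZMod 2)).UP ≤ (chevRel certE6 K).UP.comap (ChevFixed.groupMap chevE6 ι) from
        (chevRel certE6 (ZMod 2)).US_le fun s hs a => by
          rw [Subgroup.mem_comap, ChevFixed.groupMap_xe]
          exact (chevRel certE6 K).xe_mem_US hs _) h1
    have h3 := coef_scale certE6 posE6 (ChevAut.diagAut certE6 ChevDiag.stepsE6 (hχ k)).toMonoidHom
      (fun s => (χ k s : K)) (fun s _ a => ChevAut.diagAut_xe certE6 ChevDiag.stepsE6 (hχ k) s.2 a) h2 hr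
      (hasCoef_map ι ht')
    exact ⟨t, by rw [hf]; exact h3.1, by rw [hf]; exact h3.2, ht'⟩
  -- the regular element
  obtain ⟨v, hv⟩ : ∃ v, v = ((List.range chevF4.rank).map fun m => xG certF4 (ZMod 2) (chevF4.simple m) 1).prod :=
    ⟨_, rfl⟩
  have hvUP : v ∈ (chevRel certF4 (ZMod 2)).UP := by
    rw [hv]
    refine Subgroup.list_prod_mem (chevRel certF4 (ZMod 2)).UP fun y hy => ?_
    obtain ⟨m, hm, rfl⟩ := List.mem_map.1 hy
    exact (chevRel certF4 (ZMod 2)).xe_mem_US (S := posSet chevF4)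
      (r := (chevRel certF4 (ZMod 2)).sroot ⟨m, List.mem_range.1 hm⟩)
      ((chevRel certF4 (ZMod 2)).sroot_pos ⟨m, List.mem_range.1 hm⟩) 1
  have hψv : ∀ r : Fin chevE6.nroots, ht chevE6 auxE6 r = 1 → (r : ℕ) ∈ [56, 46, 42, 39, 37, 36] →
      HasCoef certE6 (ψ v) r 1 := by
    intro r hr hmem
    have e : ψ v = (regRoots.map fun s : Fin chevE6.nroots => xG certE6 (ZMod 2) (s : ℕ) 1).prod := by
      have hrk : chevF4.rank = 4 := by decide +kernel
      rw [hv, show List.range chevF4.rank = List.range 4 from congrArg List.range hrk]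
      simp only [List.range_succ, List.range_zero, List.nil_append, List.cons_append, List.map_cons, List.map_nil,
        List.prod_cons, List.prod_nil, mul_one, map_mul]
      rw [(hrow 0 (by omega) 1).1, (hrow 1 (by omega) 1).1, (hrow 2 (by omega) 1).1, (hrow 3 (by omega) 1).1]
      simp only [List.getD_cons_zero, List.getD_cons_succ, List.map_cons, List.map_nil, List.prod_cons, List.prod_nil,
        mul_one, mul_assoc]
      have hs := simple_roots.1
      simp only [List.range_succ, List.range_zero, List.nil_append, List.cons_append, List.map_cons, List.map_nil,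
        List.cons.injEq, and_true] at hs
      obtain ⟨s0, s1, s2, s3, s4, s5⟩ := hs
      rw [s0, s1, s2, s3, s4, s5]
      simp only [regRoots, List.map_cons, List.map_nil, List.prod_cons, List.prod_nil, mul_one, Fin.val_mk]
    rw [e]
    have h := (hasCoef_list (F := ZMod 2) r hr regRoots (by decide +kernel)).2
    have hcnt : List.count r regRoots = 1 := by
      exact (by decide +kernel : ∀ r : Fin chevE6.nroots, (r : ℕ) ∈ [56, 46, 42, 39, 37, 36] → List.count r regRoots = 1) r hmem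
    rwa [hcnt, Nat.cast_one] at h
  have hsimple : ∀ k : Fin chevE6.rank, ((chevRel certE6 K).sroot k : ℕ) ∈ [56, 46, 42, 39, 37, 36] := by
    intro k
    rw [← simple_roots.1]
    exact List.mem_map.2 ⟨k, List.mem_range.2 (hrank ▸ k.2), rfl⟩
  refine ⟨f, χ, v, hfinj, hmem, hχs, hvUP, fun k u hu => ?_, fun k u hu m => ?_, ?_⟩
  · obtain ⟨m, -⟩ : ∃ m : Fin chevE6.rank, True := ⟨⟨0, by omega⟩, trivial⟩
    have hht : ht chevE6 auxE6 ((chevRel certE6 K).sroot m : ℕ) = 1 := ht_simple certE6 m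
    obtain ⟨t, h1, -, -⟩ := hUP k u hu ((chevRel certE6 K).sroot m) hht
    exact h1
  · have hht : ht chevE6 auxE6 ((chevRel certE6 K).sroot m : ℕ) = 1 := ht_simple certE6 m
    obtain ⟨t, -, h1, -⟩ := hUP k u hu _ hht
    rcases (show ∀ x : ZMod 2, x = 0 ∨ x = 1 by decide) t with rfl | rfl
    · rw [map_zero, mul_zero] at h1; exact Or.inl h1
    · rw [map_one, mul_one] at h1; exact Or.inr h1
  intro i k
  show HasCoef certE6 (f i v) ((chevRel certE6 K).sroot k) (χ i (chevE6.simple k) : K)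
  have hht : ht chevE6 auxE6 ((chevRel certE6 K).sroot k : ℕ) = 1 := ht_simple certE6 k
  obtain ⟨t, -, h1, h2⟩ := hUP i v hvUP _ hht
  rw [hasCoef_unique certE6 h2 (hψv _ hht (hsimple k)), map_one, mul_one] at h1
  exact h1

set_option maxHeartbeats 1600000 in
theorem main {K : Type*} [Field K] [Fintype K] (hK : Fintype.card K = 4) :
    ∃ H : Fin 3 → Subgroup (twistedE6 K 2),
      (∀ i, Nonempty ((H i) ≃* chevF4.group (ZMod 2))) ∧
      (∀ i j, i ≠ j → ∀ g : (twistedE6 K 2), (H i).map (MulAut.conj g).toMonoidHom ≠ H j) := by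
  classical
  have hchar : CharP K 2 := by
    obtain ⟨p, hp⟩ := CharP.exists K
    obtain ⟨a, hp', hc⟩ := FiniteField.card K p
    have : p = 2 := (Nat.prime_dvd_prime_iff_eq hp' Nat.prime_two).1
      (hp'.dvd_of_dvd_pow (n := 2) (by rw [show 2 ^ 2 = Fintype.card K by rw [hK]; rfl, hc]; exact dvd_pow_self p a.2.ne'))
    subst this
    exact hp
  obtain ⟨ω, hω⟩ : ∃ ω : Kˣ, ω ≠ 1 := Fintype.exists_ne_of_one_lt_card (by rw [Fintype.card_units, hK]; norm_num) 1
  have hcube : ∀ u : Kˣ, u ^ 3 = 1 := fun u => by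
    rw [← pow_card_eq_one (x := u)]; congr 1; rw [Fintype.card_units, hK]
  obtain ⟨f, χ, v, hfinj, hmem, hχs, hvUP, hfUP, hcoef, hvc⟩ := exists_family hK hchar ω
  have hrank : chevE6.rank = 6 := by decide +kernel
  obtain ⟨fT, hfT⟩ : ∃ fT : Fin 3 → ↥(chevF4.group (ZMod 2)) →* ↥(twistedE6 K 2), ∀ j x,
      ((fT j x : ↥(twistedE6 K 2)) : GL chevE6.Idx K) = ((f j x : ↥(chevE6.group K)) : GL chevE6.Idx K) :=
    ⟨fun j => ((chevE6.group K).subtype.comp (f j)).codRestrict _ (hmem j), fun _ _ => rfl⟩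
  have hfTinj : ∀ j, Function.Injective (fT j) := fun j a b e =>
    hfinj j (Subtype.ext (by rw [← hfT, ← hfT, e]))
  refine ⟨fun j => (fT j).range, fun j => ⟨(MonoidHom.ofInjective (hfTinj j)).symm⟩, fun i j hij g hg => ?_⟩
  -- a conjugating element in the Chevalley group
  obtain ⟨G0, hG0⟩ : ∃ G0 : ↥(chevE6.group K), (G0 : GL chevE6.Idx K) = (g : GL chevE6.Idx K) :=
    ⟨⟨g, TwGroups.twE6_le g.2⟩, rfl⟩
  have hback : ∀ x, ∃ y, f j y = G0 * f i x * G0⁻¹ := fun x => by
    have h1 : MulAut.conj g (fT i x) ∈ (fT j).range := (SetLike.ext_iff.1 hg _).1 ⟨fT i x, ⟨x, rfl⟩, rfl⟩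
    obtain ⟨y, hy⟩ := h1
    refine ⟨y, Subtype.ext ?_⟩
    rw [← hfT, hy]
    simp [MulAut.conj_apply, hfT, hG0]
  choose α hα using hback
  obtain ⟨αh, hαh⟩ : ∃ αh : ↥(chevF4.group (ZMod 2)) →* ↥(chevF4.group (ZMod 2)), ∀ x, αh x = α x :=
    ⟨MonoidHom.mk' α fun a b => hfinj j (by rw [map_mul, hα, hα, hα, map_mul]; group), fun _ => rfl⟩
  have hαinj : Function.Injective αh := fun a b e => by
    rw [hαh, hαh] at e
    have := congrArg (f j) e
    rw [hα, hα] at this
    exact hfinj i (mul_left_cancel (mul_right_cancel this))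
  have : Fact (Nat.Prime 2) := ⟨Nat.prime_two⟩
  have : Finite ↥(chevF4.group (ZMod 2)) := (chevRel certF4 (ZMod 2)).Finite_of_field
  obtain ⟨P, hP⟩ := exists_sylow_UP certF4 (ZMod 2) 2
  obtain ⟨P', hP'⟩ : ∃ P' : Sylow 2 ↥(chevF4.group (ZMod 2)), (P' : Subgroup _) = (P : Subgroup _).map αh :=
    ⟨Sylow.ofCard ((P : Subgroup _).map αh) (by
      rw [Subgroup.card_map_of_injective hαinj, P.card_eq_multiplicity]), rfl⟩
  obtain ⟨x, hx⟩ := MulAction.exists_smul_eq ↥(chevF4.group (ZMod 2)) P' P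
  obtain ⟨g', hg'⟩ : ∃ g', g' = f j x * G0 := ⟨_, rfl⟩
  have hU : ∀ u ∈ (chevRel certF4 (ZMod 2)).UP,
      ∃ u' ∈ (chevRel certF4 (ZMod 2)).UP, g' * f i u * g'⁻¹ = f j u' := fun u hu => by
    refine ⟨x * α u * x⁻¹, ?_, ?_⟩
    · rw [← hP, ← hx, Sylow.coe_subgroup_smul, Subgroup.mem_pointwise_smul_iff_inv_smul_mem, MulAut.smul_def,
        ← map_inv, MulAut.conj_apply]
      simp only [mul_assoc, inv_inv, inv_mul_cancel_left, inv_mul_cancel, mul_one]
      rw [hP', ← hαh]
      exact Subgroup.mem_map_of_mem _ (hP.symm ▸ hu)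
    · rw [hg', map_mul, map_mul, map_inv, hα]; group
  obtain ⟨v', hv', hconj⟩ := hU v hvUP
  have hiUP : f i v ∈ (chevRel certE6 K).UP := hfUP i v hvUP
  have hB : g' ∈ (chevRel certE6 K).BS := by
    refine mem_BS_of_regular certE6 posE6 hiUP (fun k t ht' => ?_) ?_
    · rw [hasCoef_unique certE6 ht' (hvc i k)]; exact Units.ne_zero _
    · rw [hconj]; exact hfUP j v' hv'
  obtain ⟨c, hc⟩ := coef_conj_BS certE6 posE6 hB hiUP
  -- the invariant of the torus
  have hrel : ∀ k : Fin chevE6.rank,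
      (∏ m : Fin chevE6.rank, c m ^ chevE6.cartan m (chevE6.simple k) : Kˣ) * χ i (chevE6.simple k) =
        χ j (chevE6.simple k) := by
    intro k
    have hht : ht chevE6 auxE6 ((chevRel certE6 K).sroot k : ℕ) = 1 := ht_simple certE6 k
    have h2 := hc ((chevRel certE6 K).sroot k) hht (χ i (chevE6.simple k) : K) (hvc i k)
    rw [hconj] at h2
    rcases hcoef j v' hv' k with h | h <;> have h3 := hasCoef_unique certE6 h2 h
    · rw [← Units.val_mul] at h3; exact absurd h3 (Units.ne_zero _)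
    · exact Units.ext (by rw [Units.val_mul]; exact h3)
  obtain ⟨wt, hwt⟩ : ∃ wt : Fin chevE6.rank → ℤ, ∀ k : Fin chevE6.rank, wt k = ([1, 0, 2, 0, 1, 2] : List ℤ).getD k 0 :=
    ⟨_, fun _ => rfl⟩
  have hinv : ∏ k : Fin chevE6.rank, (∏ m : Fin chevE6.rank, c m ^ chevE6.cartan m (chevE6.simple k) : Kˣ) ^ wt k = 1 := by
    simp only [← Finset.prod_zpow, ← zpow_mul]
    rw [Finset.prod_comm]
    refine Finset.prod_eq_one fun m _ => ?_
    obtain ⟨z, hz⟩ := cartan_weights m
    rw [prod_zpow_exp]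
    rw [Finset.sum_congr rfl fun (k : Fin chevE6.rank) _ => mul_comm (chevE6.cartan m (chevE6.simple k)) (wt k)]
    simp only [hwt]
    rw [hz, zpow_mul, zpow_ofNat, hcube, one_zpow]
  have hfinal : ∀ n : ℕ, ∏ k : Fin chevE6.rank, (χ n (chevE6.simple k)) ^ wt k = ω ^ n := by
    intro n
    rw [← Equiv.prod_comp (finCongr hrank.symm), Fin.prod_univ_six]
    simp only [finCongr_apply, hwt, Fin.val_cast, Fin.val_zero, Fin.val_one, Fin.val_two,
      show ((3 : Fin 6) : ℕ) = 3 from rfl, show ((4 : Fin 6) : ℕ) = 4 from rfl, show ((5 : Fin 6) : ℕ) = 5 from rfl]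
    rw [hχs n 0 (by omega), hχs n 1 (by omega), hχs n 2 (by omega), hχs n 3 (by omega), hχs n 4 (by omega),
      hχs n 5 (by omega)]
    simp [cval3]
    rw [← pow_mul, ← pow_add, show n * 2 + 2 * n = 3 * n + n by ring, pow_add, pow_mul ω 3, hcube, one_pow, one_mul]
  have h5 : ω ^ (i : ℕ) = ω ^ (j : ℕ) := by
    rw [← hfinal, ← hfinal, ← one_mul (∏ k : Fin chevE6.rank, χ i (chevE6.simple k) ^ wt k), ← hinv,
      ← Finset.prod_mul_distrib]
    exact Finset.prod_congr rfl fun k _ => by rw [← mul_zpow, hrel]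
  have ho : orderOf ω = 3 := orderOf_eq_prime (hcube ω) hω
  rw [pow_inj_mod, ho, Nat.mod_eq_of_lt i.2, Nat.mod_eq_of_lt j.2] at h5
  exact hij (Fin.ext h5)

end CfsgLib.Lie.RegularCoef
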